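import Mathlib

/-! Divided powers: it suffices to check the multiplicative axioms on generators. -/

set_option autoImplicit false

universe u

open Finset

namespace Groth.Agent.DPowLib

variable {A : Type u} [CommRing A]

/-- The multiplicative axioms at one element. -/
def Good (d : ℕ → A → A) (x : A) : Prop :=
  (∀ m n : ℕ, d m x * d n x = (m + n).choose m * d (m + n) x) ∧
    ∀ m n : ℕ, n ≠ 0 → d m (d n x) = Nat.uniformBell m n * d (m * n) x

section
variable (d : ℕ → A → A) (a b : A)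

/-- The divided monomial `X^i/i! Y^j/j!`. -/
noncomputable def mon (i j : ℕ) : Polynomial (Polynomial ℚ) :=
  Polynomial.C (Polynomial.C ((i.factorial * j.factorial : ℚ)⁻¹) * Polynomial.X ^ i) * Polynomial.X ^ j

/-- Evaluation of formal combinations of divided monomials. -/
noncomputable def val : (ℕ × ℕ →₀ ℕ) →ₗ[ℕ] A × Polynomial (Polynomial ℚ) :=
  Finsupp.linearCombination ℕ fun ij => (d ij.1 a * d ij.2 b, mon ij.1 ij.2)

/-- Pairs of an element of `A` and the formal polynomial it comes from. -/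
def Rel (p : A × Polynomial (Polynomial ℚ)) : Prop :=
  ∃ e : ℕ × ℕ →₀ ℕ, p = val d a b e

theorem rel_zero : Rel d a b 0 := ⟨0, (map_zero _).symm⟩

theorem rel_mon (i j : ℕ) : Rel d a b (d i a * d j b, mon i j) := ⟨Finsupp.single (i, j) 1, by simp [val]⟩

theorem rel_add {p q} (hp : Rel d a b p) (hq : Rel d a b q) : Rel d a b (p + q) := by
  obtain ⟨e, rfl⟩ := hp
  obtain ⟨e', rfl⟩ := hq
  exact ⟨e + e', (map_add _ _ _).symm⟩

theorem rel_nsmul {p} (hp : Rel d a b p) : ∀ n : ℕ, Rel d a b (n • p)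
  | 0 => by rw [zero_smul]; exact rel_zero d a b
  | n + 1 => by rw [succ_nsmul]; exact rel_add d a b (rel_nsmul hp n) hp

theorem rel_sum {ι : Type*} (s : Finset ι) (f : ι → A × Polynomial (Polynomial ℚ)) (h : ∀ i ∈ s, Rel d a b (f i)) :
    Rel d a b (∑ i ∈ s, f i) := by
  classical
  induction s using Finset.induction_on with
  | empty => exact rel_zero d a b
  | insert x t hx ih =>
    rw [sum_insert hx]
    exact rel_add d a b (h x (mem_insert_self _ _)) (ih fun i hi => h i (mem_insert_of_mem hi))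

theorem rel_unique {x y : A} {β : Polynomial (Polynomial ℚ)} (h : Rel d a b (x, β)) (h' : Rel d a b (y, β)) : x = y := by
  obtain ⟨e, he⟩ := h
  obtain ⟨e', he'⟩ := h'
  have snd : ∀ e : ℕ × ℕ →₀ ℕ, ∀ i j, ((((val d a b) e).2).coeff j).coeff i =
      (e (i, j) : ℚ) * (i.factorial * j.factorial : ℚ)⁻¹ := fun e i j => by
    classical
    induction e using Finsupp.induction_linear with
    | zero => simp
    | add f g hf hg =>
      rw [map_add]
      simp only [Prod.snd_add, Polynomial.coeff_add, hf, hg, Finsupp.add_apply, Nat.cast_add, add_mul]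
    | single p k =>
      obtain ⟨i', j'⟩ := p
      rw [val, Finsupp.linearCombination_single]
      simp only [Prod.smul_snd, mon, Polynomial.coeff_smul, Polynomial.coeff_C_mul, Polynomial.coeff_X_pow,
        Finsupp.single_apply, Prod.mk.injEq]
      by_cases hj : j = j'
      · subst hj
        by_cases hi : i = i'
        · subst hi; simp [mul_inv, mul_assoc, Polynomial.coeff_C_mul]
        · simp [hi, Ne.symm hi, Polynomial.coeff_X_pow, mul_inv, mul_assoc, Polynomial.coeff_C_mul]
      · simp [hj, Ne.symm hj]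
  have hee : e = e' := Finsupp.ext fun ⟨i, j⟩ => by
    have h1 := snd e i j
    have h2 := snd e' i j
    rw [← he] at h1
    rw [← he'] at h2
    have h3 : (e (i, j) : ℚ) * (i.factorial * j.factorial : ℚ)⁻¹ = (e' (i, j) : ℚ) * (i.factorial * j.factorial : ℚ)⁻¹ :=
      h1.symm.trans h2
    exact_mod_cast mul_right_cancel₀ (inv_ne_zero (by positivity)) h3
  rw [hee] at he
  exact (Prod.mk.injEq .. |>.mp (he.trans he'.symm)).1

variable {d a b}

theorem mon_mul (i j k l : ℕ) :
    mon i j * mon k l = ((i + k).choose i * (j + l).choose j) • mon (i + k) (j + l) := by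
  have e : ((i.factorial * j.factorial : ℚ)⁻¹ * (k.factorial * l.factorial : ℚ)⁻¹) =
      (((i + k).choose i * (j + l).choose j : ℕ) : ℚ) * ((i + k).factorial * (j + l).factorial : ℚ)⁻¹ := by
    rw [← Nat.add_choose_mul_factorial_mul_factorial i k, ← Nat.add_choose_mul_factorial_mul_factorial j l]
    have hi : (i.factorial : ℚ) ≠ 0 := by positivity
    have hj : (j.factorial : ℚ) ≠ 0 := by positivity
    have hk : (k.factorial : ℚ) ≠ 0 := by positivity
    have hl : (l.factorial : ℚ) ≠ 0 := by positivity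
    have h1 : (((i + k).choose i : ℕ) : ℚ) ≠ 0 := by exact_mod_cast (Nat.choose_pos (Nat.le_add_right i k)).ne'
    have h2 : (((j + l).choose j : ℕ) : ℚ) ≠ 0 := by exact_mod_cast (Nat.choose_pos (Nat.le_add_right j l)).ne'
    push_cast
    field_simp
    rw [← Nat.choose_symm_add (a := i) (b := k), ← Nat.choose_symm_add (a := j) (b := l), div_self (mul_ne_zero h1 h2)]
  simp only [mon]
  rw [mul_mul_mul_comm, ← map_mul, mul_mul_mul_comm, ← map_mul, ← pow_add, ← pow_add, e, nsmul_eq_mul]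
  simp only [map_mul, map_natCast]
  ring

theorem rel_mul (ha : Good d a) (hb : Good d b) {p q} (hp : Rel d a b p) (hq : Rel d a b q) : Rel d a b (p * q) := by
  obtain ⟨e, rfl⟩ := hp
  obtain ⟨e', rfl⟩ := hq
  rw [val, Finsupp.linearCombination_apply, Finsupp.linearCombination_apply, Finsupp.sum, Finsupp.sum, sum_mul_sum]
  refine rel_sum d a b _ _ fun x _ => rel_sum d a b _ _ fun y _ => ?_
  rw [smul_mul_smul_comm]
  refine rel_nsmul d a b ?_ _
  rw [Prod.mk_mul_mk, mon_mul, mul_mul_mul_comm, ha.1, hb.1,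
    show ((x.1 + y.1).choose x.1 : A) * d (x.1 + y.1) a * ((x.2 + y.2).choose x.2 * d (x.2 + y.2) b) =
      ((x.1 + y.1).choose x.1 * (x.2 + y.2).choose x.2) • (d (x.1 + y.1) a * d (x.2 + y.2) b) by
        rw [nsmul_eq_mul]; push_cast; ring, ← Prod.smul_mk]
  exact rel_nsmul d a b (rel_mon d a b _ _) _

end

/-- The divided power `β^m/m!` of a formal polynomial. -/
noncomputable def qdp (m : ℕ) (β : Polynomial (Polynomial ℚ)) : Polynomial (Polynomial ℚ) :=
  Polynomial.C (Polynomial.C ((m.factorial : ℚ)⁻¹)) * β ^ m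

theorem qdp_add (m : ℕ) (β β' : Polynomial (Polynomial ℚ)) :
    qdp m (β + β') = ∑ k ∈ antidiagonal m, qdp k.1 β * qdp k.2 β' := by
  rw [qdp, (Commute.all β β').add_pow', mul_sum]
  refine sum_congr rfl fun k hk => ?_
  rw [HasAntidiagonal.mem_antidiagonal] at hk
  subst hk
  have e : ((k.1 + k.2).factorial : ℚ)⁻¹ * ((k.1 + k.2).choose k.1 : ℚ) = (k.1.factorial : ℚ)⁻¹ * (k.2.factorial : ℚ)⁻¹ := by
    rw [← Nat.add_choose_mul_factorial_mul_factorial k.1 k.2, Nat.choose_symm_add]
    have h1 : (k.1.factorial : ℚ) ≠ 0 := by positivity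
    have h2 : (k.2.factorial : ℚ) ≠ 0 := by positivity
    have h3 : (((k.1 + k.2).choose k.2 : ℕ) : ℚ) ≠ 0 := by exact_mod_cast (Nat.choose_pos (Nat.le_add_left k.2 k.1)).ne'
    push_cast
    field_simp
  simp only [qdp]
  rw [nsmul_eq_mul, mul_mul_mul_comm, ← map_mul, ← map_mul, ← e, map_mul, map_mul, map_natCast, map_natCast, mul_assoc]

theorem qdp_mul (m n : ℕ) (β : Polynomial (Polynomial ℚ)) :
    qdp m β * qdp n β = (m + n).choose m • qdp (m + n) β := by
  have e : (m.factorial : ℚ)⁻¹ * (n.factorial : ℚ)⁻¹ = ((m + n).choose m : ℚ) * ((m + n).factorial : ℚ)⁻¹ := by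
    rw [← Nat.add_choose_mul_factorial_mul_factorial m n, Nat.choose_symm_add]
    have h1 : (m.factorial : ℚ) ≠ 0 := by positivity
    have h2 : (n.factorial : ℚ) ≠ 0 := by positivity
    have h3 : (((m + n).choose n : ℕ) : ℚ) ≠ 0 := by exact_mod_cast (Nat.choose_pos (Nat.le_add_left n m)).ne'
    push_cast
    field_simp
  simp only [qdp]
  rw [mul_mul_mul_comm, ← map_mul, ← map_mul, ← pow_add, e, map_mul, map_mul, map_natCast, map_natCast, nsmul_eq_mul,
    mul_assoc]

theorem qdp_comp (m : ℕ) {n : ℕ} (hn : n ≠ 0) (β : Polynomial (Polynomial ℚ)) :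
    qdp m (qdp n β) = Nat.uniformBell m n • qdp (m * n) β := by
  have e : (m.factorial : ℚ)⁻¹ * ((n.factorial : ℚ)⁻¹) ^ m = (Nat.uniformBell m n : ℚ) * ((m * n).factorial : ℚ)⁻¹ := by
    rw [← Nat.uniformBell_mul_eq m hn]
    have h1 : (m.factorial : ℚ) ≠ 0 := by positivity
    have h2 : (n.factorial : ℚ) ≠ 0 := by positivity
    have h3 : (Nat.uniformBell m n : ℚ) ≠ 0 := by
      have := Nat.uniformBell_mul_eq m hn
      exact_mod_cast fun h => (Nat.factorial_ne_zero (m * n)) (by rw [← this, h, zero_mul, zero_mul])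
    push_cast
    field_simp
    rw [← mul_pow, one_div_mul_cancel h2, one_pow]
  simp only [qdp]
  rw [mul_pow, ← pow_mul, mul_comm n m, ← mul_assoc, ← map_pow, ← map_pow, ← map_mul, ← map_mul, e, map_mul, map_mul,
    map_natCast, map_natCast, nsmul_eq_mul, mul_assoc]

variable {I : Ideal A} {d : ℕ → A → A}

/-- Multiplicative axioms extend to sums. -/
theorem Good.add (h_zero : ∀ x ∈ I, d 0 x = 1) (h_one : ∀ x ∈ I, d 1 x = x)
    (h_mem : ∀ (n : ℕ) (x : A), n ≠ 0 → x ∈ I → d n x ∈ I)
    (h_add : ∀ (n : ℕ) (x y : A), x ∈ I → y ∈ I → d n (x + y) = (antidiagonal n).sum fun k => d k.1 x * d k.2 y)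
    (h_mul : ∀ (n : ℕ) (c x : A), x ∈ I → d n (c * x) = c ^ n * d n x)
    {a b : A} (haI : a ∈ I) (hbI : b ∈ I) (ha : Good d a) (hb : Good d b) : Good d (a + b) := by
  have one : Rel d a b 1 := by
    have := rel_mon d a b 0 0
    rw [h_zero a haI, h_zero b hbI, mul_one, show mon 0 0 = 1 by simp [mon]] at this
    exact this
  have rpow : ∀ {p}, Rel d a b p → ∀ m : ℕ, Rel d a b (p ^ m) := fun {p} hp m => by
    induction m with
    | zero => rw [pow_zero]; exact one
    | succ m ih => rw [pow_succ]; exact rel_mul ha hb ih hp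
  have hzero : ∀ m, d m 0 = if m = 0 then 1 else 0 := fun m => by
    split_ifs with h
    · subst h; exact h_zero 0 (zero_mem I)
    · have := h_mul m 0 0 (zero_mem I)
      rwa [zero_mul, zero_pow h, zero_mul] at this
  have hgen : ∀ i j m, (i, j) ≠ (0, 0) → d i a * d j b ∈ I ∧ Rel d a b (d m (d i a * d j b), qdp m (mon i j)) := fun i j m hij => by
    rcases eq_or_ne i 0 with rfl | hi
    · have hj : j ≠ 0 := fun h => hij (by rw [h])
      rw [h_zero a haI, one_mul]
      refine ⟨h_mem j b hj hbI, ?_⟩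
      rw [hb.2 m j hj]
      have hq : qdp m (mon 0 j) = Nat.uniformBell m j • mon 0 (m * j) := by
        have hy : ∀ t : ℕ, qdp t (Polynomial.X : Polynomial (Polynomial ℚ)) = mon 0 t := fun t => by simp [qdp, mon]
        rw [← hy j, ← hy (m * j), qdp_comp m hj]
      rw [hq]
      have := rel_nsmul d a b (rel_mon d a b 0 (m * j)) (Nat.uniformBell m j)
      rwa [h_zero a haI, one_mul, Prod.smul_mk, nsmul_eq_mul] at this
    · refine ⟨I.mul_mem_right _ (h_mem i a hi haI), ?_⟩
      rw [mul_comm (d i a), h_mul m _ _ (h_mem i a hi haI), ha.2 m i hi]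
      have hy : Rel d a b (d j b, mon 0 j) := by
        have := rel_mon d a b 0 j
        rwa [h_zero a haI, one_mul] at this
      have hx : Rel d a b (d (m * i) a, mon (m * i) 0) := by
        have := rel_mon d a b (m * i) 0
        rwa [h_zero b hbI, mul_one] at this
      have := rel_mul ha hb (rpow hy m) (rel_nsmul d a b hx (Nat.uniformBell m i))
      rw [Prod.pow_mk, Prod.smul_mk, Prod.mk_mul_mk, nsmul_eq_mul] at this
      convert this using 2
      have hxx : ∀ t : ℕ, qdp t (Polynomial.C (Polynomial.X : Polynomial ℚ)) = mon t 0 := fun t => by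
        simp [qdp, mon, ← map_pow, ← map_mul]
      have hsplit : mon i j = mon 0 j * mon i 0 := by rw [mon_mul]; simp
      rw [hsplit, ← hxx (m * i), ← qdp_comp m hi, hxx i]
      simp only [qdp]
      ring
  let P : A × Polynomial (Polynomial ℚ) → Prop := fun p =>
    p.1 ∈ I ∧ ∀ m, Rel d a b (d m p.1, qdp m p.2)
  have Padd : ∀ {p q}, P p → P q → P (p + q) := fun {p q} hp hq => ⟨add_mem hp.1 hq.1, fun m => by
    rw [Prod.fst_add, Prod.snd_add, h_add m _ _ hp.1 hq.1, qdp_add]
    have : ((antidiagonal m).sum fun k => d k.1 p.1 * d k.2 q.1, ∑ k ∈ antidiagonal m, qdp k.1 p.2 * qdp k.2 q.2) =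
        ∑ k ∈ antidiagonal m, (d k.1 p.1, qdp k.1 p.2) * (d k.2 q.1, qdp k.2 q.2) := by
      ext <;> simp [Prod.fst_sum, Prod.snd_sum]
    rw [this]
    exact rel_sum d a b _ _ fun k _ => rel_mul ha hb (hp.2 _) (hq.2 _)⟩
  have Pzero : P 0 := ⟨zero_mem I, fun m => by
    rw [Prod.fst_zero, Prod.snd_zero, hzero, qdp]
    split_ifs with h
    · subst h; simpa [Prod.mk_one_one] using one
    · simpa [zero_pow h, Prod.mk_zero_zero] using rel_zero d a b⟩
  let X' : Polynomial (Polynomial ℚ) := Polynomial.C (Polynomial.X : Polynomial ℚ)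
  let Y' : Polynomial (Polynomial ℚ) := Polynomial.X
  have hmon : ∀ i j, qdp i X' * qdp j Y' = mon i j := fun i j => by
    simp only [qdp, mon, X', Y', ← map_pow]
    rw [← mul_assoc, mul_assoc (Polynomial.C _) (Polynomial.C _) (Polynomial.C _), ← map_mul, ← map_mul]
    congr 2
    rw [mul_inv, map_mul]
    ring
  have hbase : ∀ n, Rel d a b (d n (a + b), qdp n (X' + Y')) := fun n => by
    rw [h_add n a b haI hbI, qdp_add]
    have : ((antidiagonal n).sum fun k => d k.1 a * d k.2 b, ∑ k ∈ antidiagonal n, qdp k.1 X' * qdp k.2 Y') =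
        ∑ k ∈ antidiagonal n, (d k.1 a * d k.2 b, mon k.1 k.2) := by
      ext <;> simp [Prod.fst_sum, Prod.snd_sum, hmon]
    rw [this]
    exact rel_sum d a b _ _ fun k _ => rel_mon d a b _ _
  refine ⟨fun m n => rel_unique d a b (β := qdp m (X' + Y') * qdp n (X' + Y')) (rel_mul ha hb (hbase m) (hbase n)) ?_,
    fun m n hn => rel_unique d a b (β := qdp m (qdp n (X' + Y'))) ?_ ?_⟩
  · have := rel_nsmul d a b (hbase (m + n)) ((m + n).choose m)
    rwa [Prod.smul_mk, ← qdp_mul, nsmul_eq_mul] at this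
  · have hP : P (∑ k ∈ antidiagonal n, (d k.1 a * d k.2 b, mon k.1 k.2)) :=
      Finset.sum_induction _ P (fun _ _ => Padd) Pzero fun k hk => by
        have hk0 : k ≠ (0, 0) := by
          rintro rfl
          simp at hk
          exact hn hk.symm
        exact ⟨(hgen k.1 k.2 0 hk0).1, fun m => (hgen k.1 k.2 m hk0).2⟩
    have := hP.2 m
    rw [Prod.fst_sum, Prod.snd_sum, ← h_add n a b haI hbI] at this
    simp only [← hmon] at this
    rwa [← qdp_add] at this
  · have := rel_nsmul d a b (hbase (m * n)) (Nat.uniformBell m n)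
    rwa [Prod.smul_mk, ← qdp_comp m hn, nsmul_eq_mul] at this

/-- A divided power structure from data multiplicative on generators. -/
theorem exists_of_generators (S : Set A) (hS : Ideal.span S = I) (d : ℕ → A → A)
    (h_null : ∀ (n : ℕ) (x : A), x ∉ I → d n x = 0) (h_zero : ∀ x ∈ I, d 0 x = 1) (h_one : ∀ x ∈ I, d 1 x = x)
    (h_mem : ∀ (n : ℕ) (x : A), n ≠ 0 → x ∈ I → d n x ∈ I)
    (h_add : ∀ (n : ℕ) (x y : A), x ∈ I → y ∈ I → d n (x + y) = (antidiagonal n).sum fun k => d k.1 x * d k.2 y)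
    (h_mul : ∀ (n : ℕ) (c x : A), x ∈ I → d n (c * x) = c ^ n * d n x)
    (hgood : ∀ x ∈ S, Good d x) : ∃ γ : DividedPowers I, γ.dpow = d := by
  have key : ∀ x ∈ I, Good d x := fun x hx => by
    have hx' : x ∈ Ideal.span S := by rw [hS]; exact hx
    refine (Submodule.span_induction (p := fun x _ => x ∈ I ∧ Good d x) ?_ ?_ ?_ ?_ hx').2
    · exact fun s hs => ⟨hS ▸ Ideal.subset_span hs, hgood s hs⟩
    · have hz : ∀ n, n ≠ 0 → d n 0 = 0 := fun n hn => by
        have := h_mul n 0 0 (zero_mem I)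
        rwa [zero_mul, zero_pow hn, zero_mul] at this
      refine ⟨zero_mem I, fun m n => ?_, fun m n hn => ?_⟩
      · rcases eq_or_ne m 0 with rfl | hm
        · simp [h_zero 0 (zero_mem I)]
        · rw [hz m hm, zero_mul, hz (m + n) (by omega), mul_zero]
      · rw [hz n hn]
        rcases eq_or_ne m 0 with rfl | hm
        · simp [h_zero 0 (zero_mem I), Nat.uniformBell_zero_left]
        · rw [hz m hm, hz (m * n) (Nat.mul_ne_zero hm hn), mul_zero]
    · exact fun u v _ _ hu hv => ⟨add_mem hu.1 hv.1, hu.2.add h_zero h_one h_mem h_add h_mul hu.1 hv.1 hv.2⟩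
    · rintro c u - ⟨hu, h1, h2⟩
      refine ⟨I.mul_mem_left c hu, fun m n => ?_, fun m n hn => ?_⟩
      · rw [smul_eq_mul, h_mul _ _ _ hu, h_mul _ _ _ hu, h_mul _ _ _ hu, pow_add]
        linear_combination (c ^ m * c ^ n) * h1 m n
      · rw [smul_eq_mul, h_mul _ _ _ hu, h_mul _ _ _ (h_mem n u hn hu), h_mul _ _ _ hu, ← pow_mul, mul_comm n m]
        linear_combination c ^ (m * n) * h2 m n hn
  exact ⟨⟨d, fun {n x} h => h_null n x h, fun {x} h => h_zero x h, fun {x} h => h_one x h,
    fun {n x} hn h => h_mem n x hn h, fun {n x y} hx hy => h_add n x y hx hy, fun {n c x} hx => h_mul n c x hx,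
    fun {m n x} hx => (key x hx).1 m n, fun {m n x} hn hx => (key x hx).2 m n hn⟩, rfl⟩

/-- Divided powers from an exponential map, multiplicative axioms on generators. -/
theorem exists_of_exp (S : Set A) (hS : Ideal.span S = I) (E : A → PowerSeries A)
    (h0 : ∀ x ∈ I, PowerSeries.coeff 0 (E x) = 1) (h1 : ∀ x ∈ I, PowerSeries.coeff 1 (E x) = x)
    (hm : ∀ x ∈ I, ∀ n, n ≠ 0 → PowerSeries.coeff n (E x) ∈ I)
    (hadd : ∀ x ∈ I, ∀ y ∈ I, E (x + y) = E x * E y)
    (hmul : ∀ c, ∀ x ∈ I, E (c * x) = PowerSeries.rescale c (E x))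
    (d' : ℕ → A → A) (hd' : ∀ x ∈ S, ∀ n, PowerSeries.coeff n (E x) = d' n x)
    (hg1 : ∀ x ∈ S, ∀ m n : ℕ, d' m x * d' n x = (m + n).choose m * d' (m + n) x)
    (hg2 : ∀ x ∈ S, ∀ m n : ℕ, n ≠ 0 → PowerSeries.coeff m (E (d' n x)) = Nat.uniformBell m n * d' (m * n) x) :
    ∃ γ : DividedPowers I, ∀ x ∈ I, ∀ n, γ.dpow n x = PowerSeries.coeff n (E x) := by
  classical
  obtain ⟨γ, hγ⟩ := exists_of_generators S hS (fun n x => if x ∈ I then PowerSeries.coeff n (E x) else 0)
    (fun n x h => if_neg h) (fun x h => by simp [h, h0 x h]) (fun x h => by simp [h, h1 x h])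
    (fun n x hn h => by simp [h, hm x h n hn])
    (fun n x y hx hy => by simp [hx, hy, add_mem hx hy, hadd x hx y hy, PowerSeries.coeff_mul])
    (fun n c x hx => by simp [hx, I.mul_mem_left c hx, hmul c x hx, PowerSeries.coeff_rescale])
    (fun x hx => by
      have hxI : x ∈ I := hS ▸ Ideal.subset_span hx
      refine ⟨fun m n => by simp [hxI, hd' x hx, hg1 x hx], fun m n hn => ?_⟩
      have hnI : d' n x ∈ I := by rw [← hd' x hx]; exact hm x hxI n hn
      simp [hxI, hd' x hx, hnI, hg2 x hx m n hn])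
  exact ⟨γ, fun x hx n => by rw [hγ]; exact if_pos hx⟩

end Groth.Agent.DPowLib
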