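import Groth.Agent.S2191
import Groth.Agent.S2193
import Mathlib.LinearAlgebra.Basis.Basic
import Mathlib.RingTheory.Flat.Basic
import Mathlib.RingTheory.DividedPowers.DPMorphism

/-!
# The divided power polynomial algebra given by a basis of divided monomials
-/

set_option autoImplicit false
set_option linter.style.haveILetI false

universe u v w w'

namespace Groth.Agent.DPowLib

variable {R : Type u} [CommRing R] {Λ : Type w} {P : Type v} [CommRing P] [Algebra R P] {x : Λ → ℕ → P}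

theorem dmon_mul {Q : Type*} [CommRing Q] {y : Λ → ℕ → Q} (h0 : ∀ l, y l 0 = 1)
    (hmul : ∀ l n m, y l n * y l m = ((n + m).choose n : Q) * y l (n + m)) (e e' : Λ →₀ ℕ) (s : Finset Λ)
    (he : e.support ⊆ s) (he' : e'.support ⊆ s) :
    e.prod (fun l k => y l k) * e'.prod (fun l k => y l k) =
      ((∏ l ∈ s, (e l + e' l).choose (e l) : ℕ) : Q) * (e + e').prod (fun l k => y l k) := by
  classical
  rw [Finsupp.prod_of_support_subset e he _ fun l _ => h0 l, Finsupp.prod_of_support_subset e' he' _ fun l _ => h0 l,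
    Finsupp.prod_of_support_subset (e + e') (Finsupp.support_add.trans (Finset.union_subset he he')) _ fun l _ => h0 l,
    Nat.cast_prod, ← Finset.prod_mul_distrib, ← Finset.prod_mul_distrib]
  exact Finset.prod_congr rfl fun l _ => by rw [hmul, Finsupp.add_apply]

/-- The map from the divided polynomial algebra given by a system of divided monomials. -/
theorem exists_algHom {Q : Type w'} [CommRing Q] [Algebra R Q] (hx0 : ∀ l, x l 0 = 1)
    (hxmul : ∀ l n m, x l n * x l m = ((n + m).choose n : P) * x l (n + m))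
    (b : Module.Basis (Λ →₀ ℕ) R P) (hb : ∀ e : Λ →₀ ℕ, b e = e.prod (fun l k => x l k))
    (y : Λ → ℕ → Q) (hy0 : ∀ l, y l 0 = 1)
    (hymul : ∀ l n m, y l n * y l m = ((n + m).choose n : Q) * y l (n + m)) :
    ∃ φ : P →ₐ[R] Q, ∀ l n, φ (x l n) = y l n := by
  classical
  let f : P →ₗ[R] Q := b.constr R fun e => e.prod fun l k => y l k
  have hf : ∀ e, f (b e) = e.prod fun l k => y l k := fun e => b.constr_basis _ _ _
  have hone : f 1 = 1 := by
    have := hf 0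
    rwa [hb, Finsupp.prod_zero_index, Finsupp.prod_zero_index] at this
  have hmul : ∀ a a', f (a * a') = f a * f a' := by
    intro a a'
    refine LinearMap.congr_fun₂ (b.ext fun e => b.ext fun e' => ?_ :
      (LinearMap.mul R P).compr₂ f = (LinearMap.mul R Q).compl₁₂ f f) a a'
    simp only [LinearMap.compr₂_apply, LinearMap.compl₁₂_apply, LinearMap.mul_apply']
    rw [hf, hf, hb, hb, dmon_mul hx0 hxmul e e' (e.support ∪ e'.support) Finset.subset_union_left Finset.subset_union_right,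
      dmon_mul hy0 hymul e e' (e.support ∪ e'.support) Finset.subset_union_left Finset.subset_union_right,
      ← hb, ← nsmul_eq_mul, map_nsmul, hf, nsmul_eq_mul]
  refine ⟨AlgHom.ofLinearMap f hone hmul, fun l n => ?_⟩
  show f (x l n) = _
  have := hf (Finsupp.single l n)
  rwa [hb, Finsupp.prod_single_index (h := fun l k => x l k) (hx0 l), Finsupp.prod_single_index (h := fun l k => y l k) (hy0 l)] at this

theorem algHom_ext {Q : Type w'} [CommRing Q] [Algebra R Q] (b : Module.Basis (Λ →₀ ℕ) R P)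
    (hb : ∀ e : Λ →₀ ℕ, b e = e.prod (fun l k => x l k)) {φ ψ : P →ₐ[R] Q} (h : ∀ l n, φ (x l n) = ψ (x l n)) :
    φ = ψ := by
  refine AlgHom.toLinearMap_injective (b.ext fun e => ?_)
  simp only [AlgHom.toLinearMap_apply, hb, Finsupp.prod, map_prod, h]

theorem existsUnique_dpHom {Q : Type w'} [CommRing Q] [Algebra R Q] (hx0 : ∀ l, x l 0 = 1)
    (hxmul : ∀ l n m, x l n * x l m = ((n + m).choose n : P) * x l (n + m))
    (b : Module.Basis (Λ →₀ ℕ) R P) (hb : ∀ e : Λ →₀ ℕ, b e = e.prod (fun l k => x l k))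
    (γ : DividedPowers (Ideal.span {y : P | ∃ (l : Λ) (n : ℕ), 1 ≤ n ∧ y = x l n}))
    (hγ : ∀ (l : Λ) (n : ℕ), γ.dpow n (x l 1) = x l n)
    {J : Ideal Q} (δ : DividedPowers J) (s : Λ → Q) (hs : ∀ l, s l ∈ J) :
    ∃! φ : P →ₐ[R] Q, γ.IsDPMorphism δ φ.toRingHom ∧ ∀ l, φ (x l 1) = s l := by
  have h1 : ∀ l, x l 1 ∈ Ideal.span {y : P | ∃ (l : Λ) (n : ℕ), 1 ≤ n ∧ y = x l n} := fun l =>
    Ideal.subset_span ⟨l, 1, le_rfl, rfl⟩
  obtain ⟨φ, hφ⟩ := exists_algHom hx0 hxmul b hb (fun l n => δ.dpow n (s l)) (fun l => δ.dpow_zero (hs l))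
    fun l n m => δ.mul_dpow (hs l)
  refine ⟨φ, ⟨DividedPowers.IsDPMorphism.on_span γ δ rfl ?_ ?_, fun l => by rw [hφ, δ.dpow_one (hs l)]⟩, ?_⟩
  · rintro _ ⟨l, n, hn, rfl⟩
    show φ (x l n) ∈ J
    rw [hφ]
    exact δ.dpow_mem (by omega) (hs l)
  · rintro m _ ⟨l, n, hn, rfl⟩
    show φ (γ.dpow m (x l n)) = δ.dpow m (φ (x l n))
    rw [← hγ l n, γ.dpow_comp (by omega) (h1 l), hγ l (m * n), map_mul, map_natCast, hφ, hγ l n, hφ,
      δ.dpow_comp (by omega) (hs l)]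
  · rintro ψ ⟨hψ, hψ1⟩
    refine algHom_ext b hb fun l n => ?_
    rw [hφ, ← hγ l n, ← hψ1 l]
    exact hψ.map_dpow (h1 l)

theorem repr_mem_of_mem_map {I : Ideal R} (b : Module.Basis (Λ →₀ ℕ) R P) {z : P}
    (hz : z ∈ I.map (algebraMap R P)) (e : Λ →₀ ℕ) : b.repr z e ∈ I := by
  replace hz : z ∈ I • (⊤ : Submodule R P) := by
    rw [Ideal.smul_top_eq_map]; exact hz
  induction hz using Submodule.smul_induction_on' with
  | smul r hr y _ => rw [map_smul, Finsupp.smul_apply, smul_eq_mul]; exact I.mul_mem_right _ hr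
  | add y hy y' hy' h h' => rw [map_add, Finsupp.add_apply]; exact add_mem h h'

theorem mem_of_mem_map_of_mem_plus {I : Ideal R} (hx0 : ∀ l, x l 0 = 1)
    (hxmul : ∀ l n m, x l n * x l m = ((n + m).choose n : P) * x l (n + m))
    (b : Module.Basis (Λ →₀ ℕ) R P) (hb : ∀ e : Λ →₀ ℕ, b e = e.prod (fun l k => x l k)) {z : P}
    (hz : z ∈ I.map (algebraMap R P)) (hz' : z ∈ Ideal.span {y : P | ∃ (l : Λ) (n : ℕ), 1 ≤ n ∧ y = x l n}) :
    z ∈ AddSubmonoid.closure {q : P | ∃ i ∈ I, ∃ w ∈ Ideal.span {y : P | ∃ (l : Λ) (n : ℕ), 1 ≤ n ∧ y = x l n},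
      q = algebraMap R P i * w} := by
  classical
  obtain ⟨ε, hε⟩ := exists_algHom (Q := R) hx0 hxmul b hb (fun _ n => if n = 0 then 1 else 0) (fun _ => if_pos rfl)
    fun l n m => by rcases n with _ | n <;> simp [add_assoc]
  have hker : ∀ q ∈ Ideal.span {y : P | ∃ (l : Λ) (n : ℕ), 1 ≤ n ∧ y = x l n}, ε q = 0 := by
    intro q hq
    refine (Ideal.span_le (I := RingHom.ker ε.toRingHom)).2 ?_ hq
    rintro _ ⟨l, n, hn, rfl⟩
    exact (hε l n).trans (if_neg (by omega))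
  have hb0 : ∀ e : Λ →₀ ℕ, e ≠ 0 → b e ∈ Ideal.span {y : P | ∃ (l : Λ) (n : ℕ), 1 ≤ n ∧ y = x l n} := by
    intro e he
    obtain ⟨l, hl⟩ := Finsupp.support_nonempty_iff.2 he
    rw [hb, Finsupp.prod, ← Finset.mul_prod_erase _ _ hl]
    exact Ideal.mul_mem_right _ _ (Ideal.subset_span ⟨l, e l, Nat.one_le_iff_ne_zero.2 (Finsupp.mem_support_iff.1 hl), rfl⟩)
  have h00 : b.repr z 0 = 0 := by
    have h := congrArg ε (b.linearCombination_repr z)
    rw [Finsupp.linearCombination_apply, map_finsuppSum, hker z hz', Finsupp.sum_eq_single 0] at h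
    · rw [map_smul, hb, Finsupp.prod_zero_index, map_one, smul_eq_mul, mul_one] at h
      exact h
    · intro e _ he
      rw [map_smul, hker _ (hb0 e he), smul_zero]
    · simp
  rw [← b.linearCombination_repr z, Finsupp.linearCombination_apply]
  refine sum_mem fun e he => AddSubmonoid.subset_closure ⟨b.repr z e, repr_mem_of_mem_map b hz e, b e, hb0 e ?_, Algebra.smul_def _ _⟩
  rintro rfl
  exact Finsupp.mem_support_iff.1 he h00

theorem dpow_agree {I : Ideal R} {γ : DividedPowers I} {δ₁ : DividedPowers (I.map (algebraMap R P))}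
    (h₁ : γ.IsDPMorphism δ₁ (algebraMap R P)) {J : Ideal P} (δ₂ : DividedPowers J) (hx0 : ∀ l, x l 0 = 1)
    (hxmul : ∀ l n m, x l n * x l m = ((n + m).choose n : P) * x l (n + m))
    (b : Module.Basis (Λ →₀ ℕ) R P) (hb : ∀ e : Λ →₀ ℕ, b e = e.prod (fun l k => x l k))
    (hJ : J = Ideal.span {y : P | ∃ (l : Λ) (n : ℕ), 1 ≤ n ∧ y = x l n}) (n : ℕ) {z : P}
    (hz : z ∈ I.map (algebraMap R P) ⊓ J) : δ₁.dpow n z = δ₂.dpow n z := by
  subst hJ
  suffices z ∈ I.map (algebraMap R P) ∧ z ∈ Ideal.span {y : P | ∃ (l : Λ) (n : ℕ), 1 ≤ n ∧ y = x l n} ∧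
      ∀ n, δ₁.dpow n z = δ₂.dpow n z from this.2.2 n
  have hz' := mem_of_mem_map_of_mem_plus hx0 hxmul b hb hz.1 hz.2
  clear hz
  induction hz' using AddSubmonoid.closure_induction with
  | mem q hq =>
    obtain ⟨i, hi, w, hw, rfl⟩ := hq
    refine ⟨Ideal.mul_mem_right _ _ (Ideal.mem_map_of_mem _ hi), Ideal.mul_mem_left _ _ hw, fun m => ?_⟩
    rw [mul_comm, δ₁.dpow_mul (Ideal.mem_map_of_mem _ hi), h₁.dpow_comp i hi, mul_comm w, δ₂.dpow_mul hw, ← map_pow,
      ← γ.factorial_mul_dpow_eq_pow hi, map_mul, map_natCast, mul_comm (m.factorial : P), mul_assoc,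
      δ₂.factorial_mul_dpow_eq_pow hw, mul_comm]
  | zero =>
    refine ⟨zero_mem _, zero_mem _, fun m => ?_⟩
    rcases eq_or_ne m 0 with rfl | hm
    · rw [δ₁.dpow_zero (zero_mem _), δ₂.dpow_zero (zero_mem _)]
    · rw [δ₁.dpow_eval_zero hm, δ₂.dpow_eval_zero hm]
  | add q q' _ _ hq hq' =>
    refine ⟨add_mem hq.1 hq'.1, add_mem hq.2.1 hq'.2.1, fun m => ?_⟩
    rw [δ₁.dpow_add hq.1 hq'.1, δ₂.dpow_add hq.2.1 hq'.2.1]
    simp only [hq.2.2, hq'.2.2]

theorem existsUnique_compatible {R : Type u} [CommRing R] {I : Ideal R} (γ : DividedPowers I) {Λ : Type w}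
    {P : Type v} [CommRing P] [Algebra R P] {x : Λ → ℕ → P} (hx0 : ∀ l, x l 0 = 1)
    (hxmul : ∀ l n m, x l n * x l m = ((n + m).choose n : P) * x l (n + m))
    (b : Module.Basis (Λ →₀ ℕ) R P) (hb : ∀ e : Λ →₀ ℕ, b e = e.prod (fun l k => x l k))
    {J : Ideal P} (hJ : J = Ideal.span {y : P | ∃ (l : Λ) (n : ℕ), 1 ≤ n ∧ y = x l n}) (δplus : DividedPowers J) :
    ∃! δ : DividedPowers (I.map (algebraMap R P) ⊔ J),
      γ.IsDPMorphism δ (algebraMap R P) ∧ ∀ (n : ℕ) (y : P), y ∈ J → δ.dpow n y = δplus.dpow n y := by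
  haveI : Module.Free R P := Module.Free.of_basis b
  obtain ⟨δ₁, h₁⟩ := (Groth.Agent.S2193.result (B := P) γ).2 inferInstance
  obtain ⟨δ, ⟨hδ₁, hδ₂⟩, huniq⟩ := Groth.Agent.S2191.result δ₁ δplus fun n z hz =>
    dpow_agree h₁ δplus hx0 hxmul b hb hJ n hz
  refine ⟨δ, ⟨⟨h₁.ideal_comp.trans le_sup_left, fun a ha => ?_⟩, hδ₂⟩, fun δ' hδ' => huniq δ' ⟨fun n z hz => ?_, hδ'.2⟩⟩
  · rw [hδ₁ _ _ (Ideal.mem_map_of_mem _ ha)]
    exact h₁.dpow_comp a ha
  · refine ((?_ : (∀ k, δ'.dpow k z = δ₁.dpow k z) ∧ z ∈ I.map (algebraMap R P)).1 n)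
    have hle : I.map (algebraMap R P) ≤ I.map (algebraMap R P) ⊔ J := le_sup_left
    refine Submodule.span_induction (p := fun z _ => (∀ k, δ'.dpow k z = δ₁.dpow k z) ∧ z ∈ I.map (algebraMap R P))
      ?_ ?_ ?_ ?_ (show z ∈ Submodule.span P (algebraMap R P '' (I : Set R)) from hz)
    · rintro _ ⟨a, ha, rfl⟩
      exact ⟨fun k => (hδ'.1.dpow_comp a ha).trans (h₁.dpow_comp a ha).symm, Ideal.mem_map_of_mem _ ha⟩
    · refine ⟨fun k => ?_, zero_mem _⟩
      rcases eq_or_ne k 0 with rfl | hk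
      · rw [δ'.dpow_zero (zero_mem _), δ₁.dpow_zero (zero_mem _)]
      · rw [δ'.dpow_eval_zero hk, δ₁.dpow_eval_zero hk]
    · intro q q' _ _ hq hq'
      refine ⟨fun k => ?_, add_mem hq.2 hq'.2⟩
      rw [δ'.dpow_add (hle hq.2) (hle hq'.2), δ₁.dpow_add hq.2 hq'.2]
      simp only [hq.1, hq'.1]
    · intro a q _ hq
      refine ⟨fun k => ?_, Ideal.mul_mem_left _ _ hq.2⟩
      rw [smul_eq_mul, δ'.dpow_mul (hle hq.2), δ₁.dpow_mul hq.2, hq.1]

end Groth.Agent.DPowLib
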