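import Groth.Agent.DPowLib.Universal
import Groth.Agent.DPowLib.PolyAlg
import Mathlib.RingTheory.DividedPowers.RatAlgebra
import Mathlib.RingTheory.DividedPowers.SubDPIdeal
import Mathlib.Algebra.MvPolynomial.Eval

/-!
# Divided powers on the augmentation ideal of a divided power polynomial algebra
-/

set_option autoImplicit false
set_option linter.style.haveILetI false

universe u v

namespace Groth.Agent.DPowLib

open MvPolynomial

theorem existsUnique_augIdeal {R : Type u} [CommRing R] (N : ℕ) {P : Type v} [CommRing P] [Algebra R P]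
    {x : Fin N → ℕ → P} (hx0 : ∀ i, x i 0 = 1)
    (hxmul : ∀ i n m, x i n * x i m = ((n + m).choose n : P) * x i (n + m))
    (b : Module.Basis (Fin N →₀ ℕ) R P) (hb : ∀ e : Fin N →₀ ℕ, b e = e.prod (fun i k => x i k)) :
    ∃! γ : DividedPowers (Ideal.span {y : P | ∃ (i : Fin N) (n : ℕ), 1 ≤ n ∧ y = x i n}),
      ∀ (i : Fin N) (n : ℕ), γ.dpow n (x i 1) = x i n := by
  classical
  have h1 : ∀ i, x i 1 ∈ Ideal.span {y : P | ∃ (i : Fin N) (n : ℕ), 1 ≤ n ∧ y = x i n} := fun i =>
    Ideal.subset_span ⟨i, 1, le_rfl, rfl⟩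
  refine existsUnique_of_exists_of_unique ?_ fun γ γ' hγ hγ' => ?_
  swap
  · refine DividedPowers.dpow_eq_from_gens γ' γ rfl fun {m} z hz => ?_
    obtain ⟨i, n, hn, rfl⟩ := hz
    have e : ∀ δ : DividedPowers (Ideal.span {y : P | ∃ (i : Fin N) (n : ℕ), 1 ≤ n ∧ y = x i n}),
        (∀ (i : Fin N) (n : ℕ), δ.dpow n (x i 1) = x i n) → δ.dpow m (x i n) = Nat.uniformBell m n * x i (m * n) := by
      intro δ hδ
      rw [← hδ i n, δ.dpow_comp (by omega) (h1 i), hδ]
    rw [e γ hγ, e γ' hγ']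
  let M := MvPolynomial (Fin N) (MvPolynomial R ℚ)
  let ι₀ : MvPolynomial R ℤ →+* MvPolynomial R ℚ := MvPolynomial.map (Int.castRingHom ℚ)
  have hι₀ : Function.Injective ι₀ := MvPolynomial.map_injective _ Int.cast_injective
  let q₀ : MvPolynomial R ℤ →+* R := MvPolynomial.eval₂Hom (Int.castRingHom R) id
  let K : Ideal M := RingHom.ker (MvPolynomial.constantCoeff : M →+* MvPolynomial R ℚ)
  let ε := DividedPowers.RatAlgebra.dividedPowers K
  have hXK : ∀ i, (X i : M) ∈ K := fun i => RingHom.mem_ker.2 (constantCoeff_X _ i)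
  let Q := MvPolynomial (Fin N × ℕ) (MvPolynomial R ℤ)
  let hM : MvPolynomial R ℤ →+* M := MvPolynomial.C.comp ι₀
  let hP : MvPolynomial R ℤ →+* P := (algebraMap R P).comp q₀
  let f : Q →+* M := eval₂Hom hM fun ik => ε.dpow (ik.2 + 1) (X ik.1)
  let g : Q →+* P := eval₂Hom hP fun ik => x ik.1 (ik.2 + 1)
  have fX : ∀ ik, f (X ik) = ε.dpow (ik.2 + 1) (X ik.1) := fun ik => eval₂Hom_X' _ _ _
  have gX : ∀ ik, g (X ik) = x ik.1 (ik.2 + 1) := fun ik => eval₂Hom_X' _ _ _
  have fC : ∀ r, f (C r) = hM r := fun r => eval₂Hom_C _ _ _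
  have gC : ∀ r, g (C r) = hP r := fun r => eval₂Hom_C _ _ _
  let s : Fin N × ℕ → Q := fun ik => X ik
  let d : ℕ → Fin N × ℕ → Q := fun n ik => (Nat.uniformBell n (ik.2 + 1) : Q) * X (ik.1, n * (ik.2 + 1) - 1)
  have hd : ∀ n a, n ≠ 0 → d n a ∈ Ideal.span (Set.range s) := fun n a _ =>
    Ideal.mul_mem_left _ _ (Ideal.subset_span ⟨_, rfl⟩)
  have hf : Adm s d ε f := by
    intro ik
    refine ⟨?_, fun n hn => ?_⟩
    · show f (X ik) ∈ K
      rw [fX]
      exact ε.dpow_mem ik.2.succ_ne_zero (hXK _)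
    · show ε.dpow n (f (X ik)) = f ((Nat.uniformBell n (ik.2 + 1) : Q) * X (ik.1, n * (ik.2 + 1) - 1))
      rw [fX, map_mul, map_natCast, fX]
      rw [ε.dpow_comp ik.2.succ_ne_zero (hXK _),
        Nat.sub_add_cancel (Nat.one_le_iff_ne_zero.2 (Nat.mul_ne_zero hn ik.2.succ_ne_zero))]
  obtain ⟨δ, hδ⟩ := exists_dp_quotient s d hd (fun _ : Unit => M) (fun _ => K) (fun _ => ε) (fun _ => f) (fun _ => hf)
    (RingHom.ker f) (fun q => by simp [RingHom.mem_ker])
  -- simultaneous normal forms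
  let yQ : Fin N → ℕ → Q := fun i n => if n = 0 then 1 else X (i, n - 1)
  let yM : Fin N → ℕ → M := fun i n => ε.dpow n (X i)
  have hfy : ∀ i n, f (yQ i n) = yM i n := by
    intro i n
    rcases n with _ | n
    · simp [yQ, yM, ε.dpow_zero (hXK i)]
    · simp [yQ, yM, fX]
  have hgy : ∀ i n, g (yQ i n) = x i n := by
    intro i n
    rcases n with _ | n
    · simp [yQ, hx0]
    · simp [yQ, gX]
  let y : Fin N → ℕ → M × P := fun i n => (yM i n, x i n)
  have hy0 : ∀ i, y i 0 = 1 := fun i => Prod.ext (ε.dpow_zero (hXK i)) (hx0 i)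
  have hymul : ∀ i n m, y i n * y i m = ((n + m).choose n : M × P) * y i (n + m) := fun i n m =>
    Prod.ext (ε.mul_dpow (hXK i)) (hxmul i n m)
  let h2 : MvPolynomial R ℤ →+* M × P := hM.prod hP
  have hnf : ∀ q : Q, ∃ c : (Fin N →₀ ℕ) →₀ MvPolynomial R ℤ,
      (f q, g q) = c.sum fun e r => h2 r * e.prod fun i k => y i k := by
    intro q
    induction q using MvPolynomial.induction_on with
    | C r =>
      refine ⟨Finsupp.single 0 r, ?_⟩
      rw [Finsupp.sum_single_index (by rw [map_zero, zero_mul]), Finsupp.prod_zero_index, mul_one]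
      simp [fC, gC, h2]
    | add p q hp hq =>
      obtain ⟨c, hc⟩ := hp
      obtain ⟨c', hc'⟩ := hq
      refine ⟨c + c', ?_⟩
      rw [Finsupp.sum_add_index' (fun e => by rw [map_zero, zero_mul]) (fun e r r' => by rw [map_add, add_mul]),
        map_add, map_add, ← hc, ← hc', Prod.mk_add_mk]
    | mul_X p ik hp =>
      obtain ⟨c, hc⟩ := hp
      let e₁ := Finsupp.single ik.1 (ik.2 + 1)
      let k : (Fin N →₀ ℕ) → ℕ := fun e => ∏ l ∈ Finset.univ, (e l + e₁ l).choose (e l)
      refine ⟨c.sum fun e r => Finsupp.single (e + e₁) (r * (k e : MvPolynomial R ℤ)), ?_⟩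
      rw [Finsupp.sum_sum_index (fun e => by rw [map_zero, zero_mul]) (fun e r r' => by rw [map_add, add_mul])]
      have hX : (f (X ik), g (X ik)) = e₁.prod fun i k => y i k := by
        rw [Finsupp.prod_single_index (h := fun i k => y i k) (hy0 _)]
        simp [fX, gX, y, yM]
      rw [map_mul, map_mul, ← Prod.mk_mul_mk, hc, hX, Finsupp.sum_mul]
      refine Finsupp.sum_congr fun e _ => ?_
      rw [Finsupp.sum_single_index (by rw [map_zero, zero_mul]), map_mul, map_natCast, mul_assoc, mul_assoc,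
        dmon_mul hy0 hymul e e₁ Finset.univ (Finset.subset_univ _) (Finset.subset_univ _)]
  -- the coefficients are determined by the image in `M`
  let w : (Fin N →₀ ℕ) → MvPolynomial R ℚ := fun e => e.prod fun _ n => C ((n.factorial : ℚ)⁻¹)
  have hyM : ∀ i n, yM i n = C (C ((n.factorial : ℚ)⁻¹)) * X i ^ n := by
    intro i n
    rw [← ε.factorial_mul_dpow_eq_pow (hXK i), ← mul_assoc, ← map_natCast (MvPolynomial.C (σ := Fin N)),
      ← map_natCast (MvPolynomial.C (σ := R)), ← map_mul, ← map_mul,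
      inv_mul_cancel₀ (by exact_mod_cast n.factorial_ne_zero), map_one, map_one, one_mul]
  have hmonM : ∀ e : Fin N →₀ ℕ, (e.prod fun i k => yM i k) = monomial e (w e) := by
    intro e
    simp only [hyM, Finsupp.prod, w, monomial_eq, map_prod, ← Finset.prod_mul_distrib]
  have hw : ∀ e, w e ≠ 0 := fun e => Finset.prod_ne_zero_iff.2 fun i _ =>
    (map_ne_zero_iff _ (MvPolynomial.C_injective _ _)).2 (inv_ne_zero (by exact_mod_cast (e i).factorial_ne_zero))
  have hcoef : ∀ (c : (Fin N →₀ ℕ) →₀ MvPolynomial R ℤ) (e : Fin N →₀ ℕ),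
      coeff e ((c.sum fun e r => h2 r * e.prod fun i k => y i k).1) = ι₀ (c e) * w e := by
    intro c e
    have : (c.sum fun e r => h2 r * e.prod fun i k => y i k).1 = c.sum fun e r => monomial e (ι₀ r * w e) := by
      rw [Finsupp.sum, Prod.fst_sum]
      refine Finset.sum_congr rfl fun e _ => ?_
      rw [Prod.fst_mul, show (e.prod fun i k => y i k).1 = e.prod fun i k => yM i k from
        map_finsuppProd (RingHom.fst M P) e _, hmonM]
      exact C_mul_monomial
    rw [this, Finsupp.sum, coeff_sum, Finset.sum_eq_single e]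
    · rw [coeff_monomial, if_pos rfl]
    · intro e' _ he'; rw [coeff_monomial, if_neg he']
    · intro he; rw [Finsupp.notMem_support_iff.1 he, map_zero, zero_mul, monomial_zero, coeff_zero]
  have hfg : RingHom.ker f ≤ RingHom.ker g := by
    intro q hq
    obtain ⟨c, hc⟩ := hnf q
    have : c = 0 := Finsupp.ext fun e => by
      have h := hcoef c e
      rw [← hc, RingHom.mem_ker.1 hq, coeff_zero] at h
      exact (map_eq_zero_iff ι₀ hι₀).1 ((mul_eq_zero.1 h.symm).resolve_right (hw e))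
    rw [this, Finsupp.sum_zero_index] at hc
    exact RingHom.mem_ker.2 (congrArg Prod.snd hc)
  let π := Ideal.Quotient.mk (RingHom.ker f)
  let gbar : Q ⧸ RingHom.ker f →+* P := Ideal.Quotient.lift _ g fun q hq => RingHom.mem_ker.1 (hfg hq)
  let J := Ideal.span (Set.range (π ∘ s))
  have hgJ : Ideal.span {y : P | ∃ (i : Fin N) (n : ℕ), 1 ≤ n ∧ y = x i n} = J.map gbar := by
    rw [Ideal.map_span, ← Set.range_comp]
    congr 1
    ext z
    constructor
    · rintro ⟨i, n, hn, rfl⟩
      refine ⟨(i, n - 1), ?_⟩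
      show g (X (i, n - 1)) = _
      rw [gX, Nat.sub_add_cancel hn]
    · rintro ⟨ik, rfl⟩
      refine ⟨ik.1, ik.2 + 1, by omega, ?_⟩
      show g (X ik) = _
      rw [gX]
  have hq₀ : Function.Surjective q₀ := fun r => ⟨X r, eval₂Hom_X' _ _ _⟩
  have hgbar : Function.Surjective gbar := by
    intro z
    choose r hr using fun e => hq₀ (b.repr z e)
    refine ⟨π (∑ e ∈ (b.repr z).support, C (r e) * e.prod fun i k => yQ i k), ?_⟩
    show g _ = z
    rw [map_sum]
    conv_rhs => rw [← b.linearCombination_repr z, Finsupp.linearCombination_apply, Finsupp.sum]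
    refine Finset.sum_congr rfl fun e _ => ?_
    rw [map_mul, map_finsuppProd, hb, Algebra.smul_def, ← hr e]
    congr 1
    · simp [gC, hP]
    · simp only [hgy]
  have hsub : δ.IsSubDPIdeal (RingHom.ker gbar ⊓ J) := by
    refine ⟨inf_le_right, fun n hn {t} ht => ?_⟩
    obtain ⟨q, rfl⟩ := Ideal.Quotient.mk_surjective t
    obtain ⟨c, hc⟩ := hnf q
    have hJK : ∀ z : Q, π z ∈ J → f z ∈ K := by
      intro z hz
      refine (Ideal.span_le (I := K.comap (Ideal.Quotient.lift (RingHom.ker f) f fun q hq => RingHom.mem_ker.1 hq))).2 ?_ hz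
      rintro _ ⟨ik, rfl⟩
      exact (hf ik).1
    have hc0 : c 0 = 0 := by
      have h := hcoef c 0
      rw [← hc] at h
      have h0 : coeff (0 : Fin N →₀ ℕ) (f q) = 0 :=
        (show constantCoeff (f q) = 0 from RingHom.mem_ker.1 (hJK q ht.2))
      replace h : coeff (0 : Fin N →₀ ℕ) (f q) = ι₀ (c 0) * w 0 := h
      rw [h0] at h
      exact (map_eq_zero_iff ι₀ hι₀).1 ((mul_eq_zero.1 h.symm).resolve_right (hw 0))
    have hcq : ∀ e, q₀ (c e) = 0 := by
      have h := congrArg Prod.snd hc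
      rw [show (f q, g q).2 = g q from rfl, show g q = 0 from RingHom.mem_ker.1 ht.1, Finsupp.sum, Prod.snd_sum] at h
      have h' : ∑ e ∈ c.support, q₀ (c e) • b e = 0 := by
        rw [h]
        refine Finset.sum_congr rfl fun e _ => ?_
        rw [Prod.snd_mul, hb, Algebra.smul_def, show (e.prod fun i k => y i k).2 = e.prod fun i k => x i k from
          map_finsuppProd (RingHom.snd M P) e _]
        rfl
      intro e
      by_cases he : e ∈ c.support
      · exact linearIndependent_iff'.1 b.linearIndependent c.support (fun e => q₀ (c e)) h' e he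
      · rw [Finsupp.notMem_support_iff.1 he, map_zero]
    have hq : π q = ∑ e ∈ c.support, π (C (c e)) * π (e.prod fun i k => yQ i k) := by
      simp only [← map_mul, ← map_sum]
      refine Ideal.Quotient.eq.2 (RingHom.mem_ker.2 ?_)
      rw [map_sub, sub_eq_zero, show f q = (f q, g q).1 from rfl, hc, Finsupp.sum, Prod.fst_sum, map_sum]
      refine Finset.sum_congr rfl fun e _ => ?_
      rw [Prod.fst_mul, map_mul, map_finsuppProd, show (e.prod fun i k => y i k).1 = e.prod fun i k => yM i k from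
        map_finsuppProd (RingHom.fst M P) e _]
      simp only [hfy]
      simp [fC, h2]
    suffices ∀ z, z = π q → (z ∈ RingHom.ker gbar ⊓ J ∧ ∀ n, n ≠ 0 → δ.dpow n z ∈ RingHom.ker gbar ⊓ J) from
      (this _ rfl).2 n hn
    rintro z rfl
    rw [hq]
    refine Finset.sum_induction _ (fun z => z ∈ RingHom.ker gbar ⊓ J ∧ ∀ n, n ≠ 0 → δ.dpow n z ∈ RingHom.ker gbar ⊓ J)
      ?_ ⟨zero_mem _, fun n hn => by rw [δ.dpow_eval_zero hn]; exact zero_mem _⟩ fun e he => ?_
    · rintro z z' ⟨hz, hz'⟩ ⟨hw, hw'⟩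
      refine ⟨add_mem hz hw, fun n hn => ?_⟩
      rw [δ.dpow_add hz.2 hw.2]
      refine sum_mem fun k hk => ?_
      rw [Finset.HasAntidiagonal.mem_antidiagonal] at hk
      rcases eq_or_ne k.1 0 with h | h
      · exact Ideal.mul_mem_left _ _ (hw' k.2 (by omega))
      · exact Ideal.mul_mem_right _ _ (hz' k.1 h)
    · have hker : π (C (c e)) ∈ RingHom.ker gbar := by
        show g (C (c e)) = 0
        simp only [gC, hP, RingHom.comp_apply, hcq e, map_zero]
      have hmem : π (e.prod fun i k => yQ i k) ∈ J := by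
        obtain ⟨l, hl⟩ := Finsupp.support_nonempty_iff.2 (show e ≠ 0 from fun h => Finsupp.mem_support_iff.1 he (h ▸ hc0))
        rw [Finsupp.prod, ← Finset.mul_prod_erase _ _ hl, map_mul]
        erw [mul_comm (π (yQ l (e l)))]
        refine Ideal.mul_mem_left J _ (Ideal.subset_span ⟨(l, e l - 1), ?_⟩)
        simp [s, yQ, Finsupp.mem_support_iff.1 hl]
      refine ⟨⟨Ideal.mul_mem_right _ _ hker, Ideal.mul_mem_left _ _ hmem⟩, fun n hn => ?_⟩
      rw [δ.dpow_mul hmem]
      exact ⟨Ideal.mul_mem_right _ _ (Ideal.pow_mem_of_mem _ hker n (Nat.pos_of_ne_zero hn)),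
        Ideal.mul_mem_left _ _ (δ.dpow_mem hn hmem)⟩
  refine ⟨DividedPowers.Quotient.OfSurjective.dividedPowers δ hgbar hgJ hsub, fun i n => ?_⟩
  rcases eq_or_ne n 0 with rfl | hn
  · rw [hx0]; exact DividedPowers.dpow_zero _ (h1 i)
  rw [show x i 1 = gbar (π (s (i, 0))) by simp [gbar, π, s, gX]]
  refine (DividedPowers.Quotient.OfSurjective.dpow_apply δ hgbar hgJ hsub
    (a := π (s (i, 0))) (n := n) (Ideal.subset_span ⟨(i, 0), rfl⟩)).trans ?_
  rw [(hδ (i, 0)).2 n hn]
  show g ((Nat.uniformBell n (0 + 1) : Q) * X (i, n * (0 + 1) - 1)) = x i n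
  simp [gX, Nat.uniformBell_one_right, Nat.sub_add_cancel (Nat.one_le_iff_ne_zero.2 hn)]

end Groth.Agent.DPowLib
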