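import Mathlib.RingTheory.DividedPowers.DPMorphism
import Mathlib.RingTheory.Ideal.Quotient.Operations

/-!
# Universal rings with divided powers prescribed on generators
-/

set_option autoImplicit false
set_option linter.style.haveILetI false

universe u v w w'

namespace Groth.Agent.DPowLib

open Finset

variable {Q : Type u} [CommRing Q] {σ : Type v} (s : σ → Q) (d : ℕ → σ → Q)

/-- Divided powers on `K` taking the prescribed values on the generators. -/
def Adm {C : Type w} [CommRing C] {K : Ideal C} (ε : DividedPowers K) (f : Q →+* C) : Prop :=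
  ∀ a, f (s a) ∈ K ∧ ∀ n, n ≠ 0 → ε.dpow n (f (s a)) = f (d n a)

theorem exists_dpow_lift (hd : ∀ n a, n ≠ 0 → d n a ∈ Ideal.span (Set.range s)) {ι : Type w'} (C : ι → Type w)
    [∀ i, CommRing (C i)] (K : ∀ i, Ideal (C i)) (ε : ∀ i, DividedPowers (K i)) (f : ∀ i, Q →+* C i)
    (hf : ∀ i, Adm s d (ε i) (f i)) {q : Q} (hq : q ∈ Ideal.span (Set.range s)) :
    (∀ i, f i q ∈ K i) ∧
      ∀ n, ∃ y, (n ≠ 0 → y ∈ Ideal.span (Set.range s)) ∧ ∀ i, f i y = (ε i).dpow n (f i q) := by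
  induction hq using Submodule.span_induction with
  | mem x hx =>
    obtain ⟨a, rfl⟩ := hx
    refine ⟨fun i => (hf i a).1, fun n => ?_⟩
    rcases eq_or_ne n 0 with rfl | hn
    · exact ⟨1, fun h => absurd rfl h, fun i => by rw [map_one, (ε i).dpow_zero (hf i a).1]⟩
    · exact ⟨d n a, fun _ => hd n a hn, fun i => ((hf i a).2 n hn).symm⟩
  | zero =>
    refine ⟨fun i => by rw [map_zero]; exact zero_mem _, fun n => ?_⟩
    rcases eq_or_ne n 0 with rfl | hn
    · exact ⟨1, fun h => absurd rfl h, fun i => by rw [map_one, map_zero, (ε i).dpow_zero (zero_mem _)]⟩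
    · exact ⟨0, fun _ => zero_mem _, fun i => by rw [map_zero, (ε i).dpow_eval_zero hn]⟩
  | add x y _ _ hx hy =>
    refine ⟨fun i => by rw [map_add]; exact add_mem (hx.1 i) (hy.1 i), fun n => ?_⟩
    choose Y hY using hx.2
    choose Y' hY' using hy.2
    refine ⟨∑ k ∈ antidiagonal n, Y k.1 * Y' k.2, fun hn => sum_mem fun k hk => ?_, fun i => ?_⟩
    · rw [HasAntidiagonal.mem_antidiagonal] at hk
      rcases eq_or_ne k.1 0 with h | h
      · exact Ideal.mul_mem_left _ _ ((hY' k.2).1 (by omega))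
      · exact Ideal.mul_mem_right _ _ ((hY k.1).1 h)
    · rw [map_sum, map_add, (ε i).dpow_add (hx.1 i) (hy.1 i)]
      exact Finset.sum_congr rfl fun k _ => by rw [map_mul, (hY _).2 i, (hY' _).2 i]
  | smul c x _ hx =>
    refine ⟨fun i => by rw [smul_eq_mul, map_mul]; exact Ideal.mul_mem_left _ _ (hx.1 i), fun n => ?_⟩
    obtain ⟨y, hy, hy'⟩ := hx.2 n
    refine ⟨c ^ n * y, fun hn => Ideal.mul_mem_left _ _ (hy hn), fun i => ?_⟩
    rw [smul_eq_mul, map_mul, map_mul, map_pow, (ε i).dpow_mul (hx.1 i), hy' i]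

/-- Joint divided powers on the quotient by the intersection of the kernels. -/
theorem exists_dp_quotient (hd : ∀ n a, n ≠ 0 → d n a ∈ Ideal.span (Set.range s)) {ι : Type w'} (C : ι → Type w)
    [∀ i, CommRing (C i)] (K : ∀ i, Ideal (C i)) (ε : ∀ i, DividedPowers (K i)) (f : ∀ i, Q →+* C i)
    (hf : ∀ i, Adm s d (ε i) (f i)) (𝔞 : Ideal Q) (h𝔞 : ∀ q, q ∈ 𝔞 ↔ ∀ i, f i q = 0) :
    ∃ δ : DividedPowers (Ideal.span (Set.range (Ideal.Quotient.mk 𝔞 ∘ s))), Adm s d δ (Ideal.Quotient.mk 𝔞) := by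
  classical
  let π := Ideal.Quotient.mk 𝔞
  let J := Ideal.span (Set.range (π ∘ s))
  let g : ∀ i, Q ⧸ 𝔞 →+* C i := fun i => Ideal.Quotient.lift 𝔞 (f i) fun q hq => (h𝔞 q).1 hq i
  have inj : ∀ x y, (∀ i, g i x = g i y) → x = y := by
    intro x y h
    obtain ⟨x, rfl⟩ := Ideal.Quotient.mk_surjective x
    obtain ⟨y, rfl⟩ := Ideal.Quotient.mk_surjective y
    exact Ideal.Quotient.eq.2 ((h𝔞 _).2 fun i => by rw [map_sub]; exact sub_eq_zero.2 (h i))
  have hJ : ∀ x ∈ J, (∀ i, g i x ∈ K i) ∧ ∀ n, ∃ y, (n ≠ 0 → y ∈ J) ∧ ∀ i, g i y = (ε i).dpow n (g i x) := by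
    intro x hx
    have hmap : J = (Ideal.span (Set.range s)).map π := by rw [Ideal.map_span, ← Set.range_comp]
    rw [hmap, Ideal.mem_map_iff_of_surjective _ Ideal.Quotient.mk_surjective] at hx
    obtain ⟨q, hq, rfl⟩ := hx
    obtain ⟨h1, h2⟩ := exists_dpow_lift s d hd C K ε f hf hq
    refine ⟨h1, fun n => ?_⟩
    obtain ⟨y, hy, hy'⟩ := h2 n
    exact ⟨π y, fun hn => hmap ▸ Ideal.mem_map_of_mem π (hy hn), hy'⟩
  choose D hDmem hD using fun x hx => (hJ x hx).2
  let dp : ℕ → Q ⧸ 𝔞 → Q ⧸ 𝔞 := fun n x => if hx : x ∈ J then D x hx n else 0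
  have hdp : ∀ {x}, x ∈ J → ∀ n i, g i (dp n x) = (ε i).dpow n (g i x) := fun {x} hx n i => by
    simp only [dp, dif_pos hx]; exact hD x hx n i
  have hg : ∀ {x}, x ∈ J → ∀ i, g i x ∈ K i := fun {x} hx => (hJ x hx).1
  have hmem : ∀ {n x}, n ≠ 0 → x ∈ J → dp n x ∈ J := fun {n x} hn hx => by
    simp only [dp, dif_pos hx]; exact hDmem x hx n hn
  let δ : DividedPowers J :=
    { dpow := dp
      dpow_null := fun {n x} hx => dif_neg hx
      dpow_zero := fun {x} hx => inj _ _ fun i => by rw [hdp hx, map_one, (ε i).dpow_zero (hg hx i)]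
      dpow_one := fun {x} hx => inj _ _ fun i => by rw [hdp hx, (ε i).dpow_one (hg hx i)]
      dpow_mem := hmem
      dpow_add := fun {n x y} hx hy => inj _ _ fun i => by
        rw [hdp (add_mem hx hy), map_add, (ε i).dpow_add (hg hx i) (hg hy i), map_sum]
        exact Finset.sum_congr rfl fun k _ => by rw [map_mul, hdp hx, hdp hy]
      dpow_mul := fun {n a x} hx => inj _ _ fun i => by
        rw [hdp (Ideal.mul_mem_left _ _ hx), map_mul, (ε i).dpow_mul (hg hx i), map_mul, map_pow, hdp hx]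
      mul_dpow := fun {m n x} hx => inj _ _ fun i => by
        rw [map_mul, map_mul, map_natCast, hdp hx, hdp hx, hdp hx, (ε i).mul_dpow (hg hx i)]
      dpow_comp := fun {m n x} hn hx => inj _ _ fun i => by
        rw [hdp (hmem hn hx), hdp hx, map_mul, map_natCast, hdp hx, (ε i).dpow_comp hn (hg hx i)] }
  refine ⟨δ, fun a => ⟨Ideal.subset_span ⟨a, rfl⟩, fun n hn => inj _ _ fun i => ?_⟩⟩
  exact (hdp (Ideal.subset_span ⟨a, rfl⟩) n i).trans ((hf i a).2 n hn)

/-- The universal ring with divided powers prescribed on generators. -/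
theorem exists_universal (hd : ∀ n a, n ≠ 0 → d n a ∈ Ideal.span (Set.range s)) :
    ∃ (D : Type u) (_ : CommRing D) (π : Q →+* D) (J : Ideal D) (δ : DividedPowers J),
      Function.Surjective π ∧ J = Ideal.span (Set.range (π ∘ s)) ∧ Adm s d δ π ∧
      ∀ (C : Type u) [CommRing C] (K : Ideal C) (ε : DividedPowers K) (f : Q →+* C), Adm s d ε f →
        ∃ g : D →+* C, g.comp π = f ∧ δ.IsDPMorphism ε g := by
  let ι := {b : Ideal Q // ∃ δ : DividedPowers (Ideal.span (Set.range (Ideal.Quotient.mk b ∘ s))),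
    Adm s d δ (Ideal.Quotient.mk b)}
  choose ε hε using fun i : ι => i.2
  let 𝔞 : Ideal Q := ⨅ i : ι, i.1
  obtain ⟨δ, hδ⟩ := exists_dp_quotient s d hd (fun i : ι => Q ⧸ i.1) _ ε (fun i => Ideal.Quotient.mk i.1) hε 𝔞
    (fun q => by simp only [𝔞, Ideal.mem_iInf, Ideal.Quotient.eq_zero_iff_mem])
  refine ⟨Q ⧸ 𝔞, inferInstance, Ideal.Quotient.mk 𝔞, _, δ, Ideal.Quotient.mk_surjective, rfl, hδ,
    fun C _ K εC f hf => ?_⟩
  obtain ⟨δ', hδ'⟩ := exists_dp_quotient s d hd (fun _ : Unit => C) (fun _ => K) (fun _ => εC) (fun _ => f)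
    (fun _ => hf) (RingHom.ker f) (fun q => by simp [RingHom.mem_ker])
  let g : Q ⧸ 𝔞 →+* C := Ideal.Quotient.lift 𝔞 f fun q hq => RingHom.mem_ker.1 ((Ideal.mem_iInf.1 hq) ⟨_, δ', hδ'⟩)
  refine ⟨g, RingHom.ext fun q => rfl, DividedPowers.IsDPMorphism.on_span δ εC rfl ?_ ?_⟩
  · rintro _ ⟨a, rfl⟩
    exact (hf a).1
  · rintro n _ ⟨a, rfl⟩
    show g (δ.dpow n (Ideal.Quotient.mk 𝔞 (s a))) = εC.dpow n (f (s a))
    rcases eq_or_ne n 0 with rfl | hn
    · rw [δ.dpow_zero (hδ a).1, εC.dpow_zero (hf a).1, map_one]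
    · rw [(hδ a).2 n hn, (hf a).2 n hn]
      rfl

end Groth.Agent.DPowLib
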