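import Mathlib.RingTheory.WittVector.Truncated
import Mathlib.RingTheory.WittVector.TeichmullerSeries
import Mathlib.RingTheory.DividedPowers.Basic

/-!
# The map from truncated Witt vectors to a divided power thickening
-/

set_option autoImplicit false
set_option linter.style.haveILetI false

universe u

open WittVector

namespace Groth.Agent.DPowLib

variable {p : ℕ} [hp : Fact p.Prime] {n : ℕ} {B : Type u} [CommRing B]

theorem ghost_eq (hpn : (p : B) ^ n = 0) (x : WittVector p B) :
    ghostComponent n x = ∑ i : Fin n, (p : B) ^ (i : ℕ) * (x.coeff i) ^ (p ^ (n - i)) := by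
  rw [ghostComponent_apply, wittPolynomial_eq_sum_C_mul_X_pow, map_sum, Finset.sum_range_succ,
    Fin.sum_univ_eq_sum_range (fun i => (p : B) ^ i * x.coeff i ^ p ^ (n - i)) n]
  simp [hpn]

theorem ghost_eq_zero (hpn : (p : B) ^ n = 0) {I : Ideal B} (hI : DividedPowers I) (x : WittVector p B)
    (hx : ∀ i < n, x.coeff i ∈ I) : ghostComponent n x = 0 := by
  rw [ghost_eq hpn]
  refine Finset.sum_eq_zero fun i _ => ?_
  have hpos : 0 < p ^ (n - i) := pow_pos hp.out.pos _
  have hdvd : p ^ (n - i) ∣ (p ^ (n - i)).factorial := Nat.dvd_factorial hpos le_rfl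
  obtain ⟨c, hc⟩ := hdvd
  rw [← hI.factorial_mul_dpow_eq_pow (hx i i.2), hc, Nat.cast_mul, Nat.cast_pow, ← mul_assoc, ← mul_assoc,
    ← pow_add, show (i : ℕ) + (n - i) = n by omega, hpn, zero_mul, zero_mul]

theorem exists_theta (hpn : (p : B) ^ n = 0) {I : Ideal B} (hI : DividedPowers I) :
    ∃ θ : TruncatedWittVector p n (B ⧸ I) →+* B, ∀ x : WittVector p B,
      θ (WittVector.truncate n (WittVector.map (Ideal.Quotient.mk I) x)) =
        ∑ i : Fin n, (p : B) ^ (i : ℕ) * (x.coeff i) ^ (p ^ (n - i)) := by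
  let π : WittVector p B →+* TruncatedWittVector p n (B ⧸ I) :=
    (WittVector.truncate n).comp (WittVector.map (Ideal.Quotient.mk I))
  have hπ : Function.Surjective π :=
    (WittVector.truncate_surjective p n (B ⧸ I)).comp (WittVector.map_surjective _ Ideal.Quotient.mk_surjective)
  refine ⟨RingHom.liftOfSurjective π hπ ⟨ghostComponent n, fun x hx => RingHom.mem_ker.2 (ghost_eq_zero hpn hI x
    fun i hi => ?_)⟩, fun x => ?_⟩
  · rw [← Ideal.Quotient.eq_zero_iff_mem, ← WittVector.map_coeff]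
    exact ((WittVector.mem_ker_truncate n _).1 (show WittVector.map (Ideal.Quotient.mk I) x ∈
      RingHom.ker (WittVector.truncate (p := p) n) from RingHom.mem_ker.2 (RingHom.mem_ker.1 hx))) i hi
  · rw [← ghost_eq hpn]
    exact RingHom.liftOfRightInverse_comp_apply _ _ _ _ x

section CharP

variable {A : Type u} [CommRing A] [CharP A p]

/-- Modulo `p`, a Witt vector is its Teichmüller part when the Frobenius is surjective. -/
theorem exists_eq_teichmuller_add (hF : Function.Surjective fun y : A => y ^ p) (y : WittVector p A) :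
    ∃ v : WittVector p A, y = teichmuller p (y.coeff 0) + v * p := by
  have h0 : (y - teichmuller p (y.coeff 0)).coeff 0 = 0 := by
    have := map_sub (WittVector.constantCoeff (p := p) (R := A)) y (teichmuller p (y.coeff 0))
    simp only [WittVector.constantCoeff_apply, teichmuller_coeff_zero, sub_self] at this
    exact this
  set z := y - teichmuller p (y.coeff 0) with hz
  obtain ⟨v, hv⟩ : ∃ v, frobenius v = z.shift 1 := by
    choose g hg using fun i => hF ((z.shift 1).coeff i)
    exact ⟨WittVector.mk p g, WittVector.ext fun i => by rw [coeff_frobenius_charP]; exact hg i⟩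
  refine ⟨v, ?_⟩
  have hs : verschiebung (z.shift 1) = z := by
    have := verschiebung_shift z 0 (fun i hi => by rw [Nat.lt_one_iff.1 hi, h0])
    rw [show z.shift 0 = z from WittVector.ext fun i => by simp [WittVector.shift]] at this
    exact this
  rw [← verschiebung_frobenius, hv, hs, hz]
  abel

end CharP

theorem surjective_theta (hpn : (p : B) ^ n = 0)
    (hF : Function.Surjective fun y : B ⧸ Ideal.span {(p : B)} => y ^ p)
    (θ : TruncatedWittVector p n (B ⧸ Ideal.span {(p : B)}) →+* B)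
    (hθ : ∀ x : WittVector p B, θ (WittVector.truncate n (WittVector.map (Ideal.Quotient.mk (Ideal.span {(p : B)})) x)) =
        ∑ i : Fin n, (p : B) ^ (i : ℕ) * (x.coeff i) ^ (p ^ (n - i))) :
    Function.Surjective θ := by
  have hroot : ∀ (m : ℕ) (b : B), ∃ c d, b = c ^ (p ^ m) + p * d := by
    intro m
    induction m with
    | zero => exact fun b => ⟨b, 0, by simp⟩
    | succ m ih =>
      intro b
      obtain ⟨c, d, rfl⟩ := ih b
      obtain ⟨e, he⟩ := hF (Ideal.Quotient.mk _ c)
      obtain ⟨e, rfl⟩ := Ideal.Quotient.mk_surjective e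
      obtain ⟨d', hd'⟩ := Ideal.mem_span_singleton.1 (Ideal.Quotient.eq.1 (he.symm.trans (map_pow _ _ _).symm))
      obtain ⟨d'', hd''⟩ := sub_dvd_pow_sub_pow c (e ^ p) (p ^ m)
      refine ⟨e, d + d' * d'', ?_⟩
      rw [pow_succ', pow_mul]
      linear_combination hd'' + d'' * hd'
  rcases Nat.eq_zero_or_pos n with rfl | hn
  · intro b
    refine ⟨0, ?_⟩
    rw [map_zero]
    exact (subsingleton_iff_zero_eq_one.1 (by simpa using hpn.symm)).elim _ _
  have hstep : ∀ (k : ℕ) (b : B), ∃ a, ∃ d, b = θ a + p ^ k * d := by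
    intro k
    induction k with
    | zero => exact fun b => ⟨0, b, by simp⟩
    | succ k ih =>
      intro b
      obtain ⟨a, d, rfl⟩ := ih b
      obtain ⟨c, d', rfl⟩ := hroot n d
      let t : WittVector p B := teichmuller p c
      refine ⟨a + (p : TruncatedWittVector p n _) ^ k *
        WittVector.truncate n (WittVector.map (Ideal.Quotient.mk _) t), d', ?_⟩
      rw [map_add, map_mul, map_pow, map_natCast, hθ]
      rw [Finset.sum_eq_single_of_mem (⟨0, hn⟩ : Fin n) (Finset.mem_univ _) fun i _ hi => by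
        rw [teichmuller_coeff_pos p c i (Nat.pos_of_ne_zero fun h => hi (Fin.ext h)), zero_pow (pow_ne_zero _ hp.out.ne_zero),
          mul_zero]]
      simp only [t, teichmuller_coeff_zero, pow_zero, one_mul, Nat.sub_zero, pow_succ]
      ring
  intro b
  obtain ⟨a, d, rfl⟩ := hstep n b
  exact ⟨a, by rw [hpn, zero_mul, add_zero]⟩

theorem coeff_zero_pow_eq_zero (hn : 0 < n) (hpn : (p : B) ^ n = 0)
    (θ : TruncatedWittVector p n (B ⧸ Ideal.span {(p : B)}) →+* B)
    (hθ : ∀ x : WittVector p B, θ (WittVector.truncate n (WittVector.map (Ideal.Quotient.mk (Ideal.span {(p : B)})) x)) =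
        ∑ i : Fin n, (p : B) ^ (i : ℕ) * (x.coeff i) ^ (p ^ (n - i)))
    (a : TruncatedWittVector p n (B ⧸ Ideal.span {(p : B)}))
    (ha : a ∈ RingHom.ker θ ⊔ Ideal.span {(p : TruncatedWittVector p n (B ⧸ Ideal.span {(p : B)}))}) :
    (TruncatedWittVector.coeff ⟨0, hn⟩ a) ^ (p ^ n) = 0 := by
  obtain ⟨b, hb, c, hc, rfl⟩ := Submodule.mem_sup.1 ha
  obtain ⟨c, rfl⟩ := Ideal.mem_span_singleton.1 hc
  obtain ⟨b, rfl⟩ := WittVector.truncate_surjective p n _ b
  obtain ⟨c, rfl⟩ := WittVector.truncate_surjective p n _ c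
  obtain ⟨x, rfl⟩ := WittVector.map_surjective _ Ideal.Quotient.mk_surjective b
  have hb' : ∑ i : Fin n, (p : B) ^ (i : ℕ) * (x.coeff i) ^ (p ^ (n - i)) = 0 := (hθ x).symm.trans hb
  rw [← map_natCast (WittVector.truncate (p := p) n), ← map_mul, ← map_add, coeff_truncate]
  show (WittVector.constantCoeff (_ + (p : WittVector p _) * c)) ^ _ = 0
  have hp0 : ((p : ℕ) : B ⧸ Ideal.span {(p : B)}) = 0 := by
    rw [← map_natCast (Ideal.Quotient.mk (Ideal.span {(p : B)})), Ideal.Quotient.eq_zero_iff_mem]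
    exact Ideal.mem_span_singleton_self _
  rw [map_add, map_mul, map_natCast, hp0, zero_mul, add_zero, WittVector.constantCoeff_apply, map_coeff, ← map_pow,
    Ideal.Quotient.eq_zero_iff_mem]
  rw [Fintype.sum_eq_add_sum_subtype_ne _ (⟨0, hn⟩ : Fin n)] at hb'
  simp only [pow_zero, one_mul, Nat.sub_zero] at hb'
  rw [eq_neg_of_add_eq_zero_left hb']
  refine neg_mem (sum_mem fun i _ => Ideal.mem_span_singleton.2 (dvd_mul_of_dvd_left (dvd_pow_self _ ?_) _))
  exact fun h => i.2 (Fin.ext h)

theorem mem_sup_of_coeff_zero (hn : 0 < n) (hpn : (p : B) ^ n = 0)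
    (hF : Function.Surjective fun y : B ⧸ Ideal.span {(p : B)} => y ^ p)
    (θ : TruncatedWittVector p n (B ⧸ Ideal.span {(p : B)}) →+* B)
    (hθ : ∀ x : WittVector p B, θ (WittVector.truncate n (WittVector.map (Ideal.Quotient.mk (Ideal.span {(p : B)})) x)) =
        ∑ i : Fin n, (p : B) ^ (i : ℕ) * (x.coeff i) ^ (p ^ (n - i)))
    (a : TruncatedWittVector p n (B ⧸ Ideal.span {(p : B)}))
    (ha : (TruncatedWittVector.coeff ⟨0, hn⟩ a) ^ (p ^ n) = 0) :
    a ∈ RingHom.ker θ ⊔ Ideal.span {(p : TruncatedWittVector p n (B ⧸ Ideal.span {(p : B)}))} := by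
  by_cases htriv : Subsingleton (B ⧸ Ideal.span {(p : B)})
  · haveI : Subsingleton (TruncatedWittVector p n (B ⧸ Ideal.span {(p : B)})) :=
      ⟨fun x y => TruncatedWittVector.ext fun i => Subsingleton.elim _ _⟩
    rw [Subsingleton.elim a 0]
    exact zero_mem _
  haveI : Nontrivial (B ⧸ Ideal.span {(p : B)}) := not_subsingleton_iff_nontrivial.1 htriv
  haveI : CharP (B ⧸ Ideal.span {(p : B)}) p := (CharP.charP_iff_prime_eq_zero hp.out).2 (by
    rw [← map_natCast (Ideal.Quotient.mk (Ideal.span {(p : B)})), Ideal.Quotient.eq_zero_iff_mem]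
    exact Ideal.mem_span_singleton_self _)
  obtain ⟨y, rfl⟩ := WittVector.truncate_surjective p n _ a
  rw [coeff_truncate] at ha
  obtain ⟨v, hv⟩ := exists_eq_teichmuller_add hF y
  obtain ⟨b, hb⟩ := Ideal.Quotient.mk_surjective (y.coeff 0)
  have hbmem : b ^ p ^ n ∈ Ideal.span {(p : B)} := by
    rw [← Ideal.Quotient.eq_zero_iff_mem, map_pow, hb]; exact ha
  obtain ⟨β, hβ⟩ := Ideal.mem_span_singleton.1 hbmem
  obtain ⟨c, hc⟩ := surjective_theta hpn hF θ hθ (-β)
  have hT : θ (WittVector.truncate n (teichmuller p (y.coeff 0))) = (p : B) * β := by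
    rw [← hβ, ← hb, ← WittVector.map_teichmuller, hθ,
      Finset.sum_eq_single_of_mem (⟨0, hn⟩ : Fin n) (Finset.mem_univ _) fun i _ hi => by
        rw [teichmuller_coeff_pos p b i (Nat.pos_of_ne_zero fun h => hi (Fin.ext h)), zero_pow (pow_ne_zero _ hp.out.ne_zero),
          mul_zero]]
    simp
  rw [Submodule.mem_sup]
  refine ⟨WittVector.truncate n (teichmuller p (y.coeff 0)) + (p : TruncatedWittVector p n _) * c, ?_,
    (p : TruncatedWittVector p n _) * (WittVector.truncate n v - c), Ideal.mul_mem_right _ _ (Ideal.mem_span_singleton_self _), ?_⟩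
  · rw [RingHom.mem_ker, map_add, map_mul, map_natCast, hT, hc]
    ring
  · conv_rhs => rw [hv, map_add, map_mul, map_natCast]
    ring

theorem pow_pow_sub_dvd {R : Type*} [CommRing R] {a b : R} (h : (p : R) ∣ a - b) (m : ℕ) :
    (p : R) ^ (m + 1) ∣ a ^ p ^ m - b ^ p ^ m :=
  dvd_sub_pow_of_dvd_sub h m

theorem truncate_eq_sum {k : Type u} [Field k] [CharP k p] [PerfectRing k p] (x : WittVector p k)
    (y : Fin n → WittVector p k) (hy : ∀ i : Fin n, ((y i).coeff 0) ^ (p ^ n) = x.coeff i) :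
    WittVector.truncate n x =
      WittVector.truncate n (∑ i : Fin n, (p : WittVector p k) ^ (i : ℕ) * (y i) ^ (p ^ (n - i))) := by
  rcases Nat.eq_zero_or_pos n with rfl | hn
  · exact TruncatedWittVector.ext fun i => i.elim0
  obtain ⟨m, rfl⟩ := Nat.exists_eq_succ_of_ne_zero hn.ne'
  suffices h : (p : WittVector p k) ^ (m + 1) ∣
      x - ∑ i : Fin (m + 1), (p : WittVector p k) ^ (i : ℕ) * (y i) ^ (p ^ (m + 1 - i)) by
    rw [← sub_eq_zero, ← map_sub]
    obtain ⟨c, hc⟩ := h
    refine RingHom.mem_ker.1 ((WittVector.mem_ker_truncate _ _).2 fun i hi => ?_)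
    rw [hc, mul_comm]
    exact WittVector.mul_pow_charP_coeff_zero c hi
  have h1 := dvd_sub_sum_teichmuller_iterateFrobeniusEquiv_coeff x m
  rw [show Finset.Iic m = Finset.range (m + 1) from by ext; simp [Nat.lt_succ_iff], ← Fin.sum_univ_eq_sum_range
    (fun i => teichmuller p (((_root_.frobeniusEquiv k p).symm ^ i) (x.coeff i)) * (p : WittVector p k) ^ i)] at h1
  have h2 : (p : WittVector p k) ^ (m + 1) ∣
      ∑ i : Fin (m + 1), teichmuller p (((_root_.frobeniusEquiv k p).symm ^ (i : ℕ)) (x.coeff i)) * (p : WittVector p k) ^ (i : ℕ) -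
        ∑ i : Fin (m + 1), (p : WittVector p k) ^ (i : ℕ) * (y i) ^ (p ^ (m + 1 - i)) := by
    rw [← Finset.sum_sub_distrib]
    refine Finset.dvd_sum fun i _ => ?_
    have hi : ((_root_.frobeniusEquiv k p).symm ^ (i : ℕ)) (x.coeff i) = (y i).coeff 0 ^ p ^ (m + 1 - i) := by
      rw [RingAut.coe_pow, ← hy i, Function.Injective.eq_iff' (f := fun z : k => z ^ p ^ (i : ℕ)) ?_ rfl |>.symm]
      · show _ ^ p ^ (i : ℕ) = _
        rw [iterate_frobeniusEquiv_symm_pow_p_pow, ← pow_mul, ← pow_add, show m + 1 - (i : ℕ) + i = m + 1 by omega]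
      · exact iterateFrobenius_inj k p i
    rw [hi, map_pow, mul_comm, ← mul_sub]
    obtain ⟨v, hv⟩ := exists_eq_teichmuller_add (fun z => ⟨(_root_.frobeniusEquiv k p).symm z,
      frobeniusEquiv_symm_pow_p k p z⟩) (y i)
    have hd : (p : WittVector p k) ∣ teichmuller p ((y i).coeff 0) - y i := ⟨-v, by rw [mul_neg, mul_comm]; linear_combination -hv⟩
    exact (pow_dvd_pow _ (by omega)).trans (((pow_add _ (i : ℕ) (m + 1 - i + 1)).dvd).trans
      (mul_dvd_mul_left _ (pow_pow_sub_dvd hd (m + 1 - i))))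
  simpa using dvd_add h1 h2

end Groth.Agent.DPowLib
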